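import Groth.Agent.H12AlgSp.Branch.Heap
import Groth.Agent.H12AlgSp.GroupObj
import Groth.Prelude.Def_AlgSpGpd

/-!
Groupoid and group spaces over a field are geometrically unibranch.
-/

set_option autoImplicit false
set_option backward.isDefEq.respectTransparency false
set_option linter.style.haveILetI false

universe u

open CategoryTheory CategoryTheory.Limits AlgebraicGeometry Opposite
open AlgSp Groth.Agent.H19Grp

namespace Groth.Agent.H12AlgSp.Branch

variable {S : Scheme.{u}} {B : Sp S} (G : GroupoidSp B)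

theorem i_heap {Z : Sp S} (y : Z ⟶ G.R) : (y ≫ G.i) ≫ G.t = y ≫ G.s := by rw [Category.assoc, G.i_t]

theorem heap_snd {Z : Sp S} (x x' y : Z ⟶ G.R) (hs : x ≫ G.s = (y ≫ G.i) ≫ G.t) (ht : x' ≫ G.t = y ≫ G.t) :
    (pullback.lift x (y ≫ G.i) hs ≫ G.c) ≫ G.s = x' ≫ G.t := by
  rw [G.comp_s, Category.assoc, G.i_s, ht]

/-- The composite `x ∘ y⁻¹ ∘ x'`. -/
noncomputable def heap {Z : Sp S} (x x' y : Z ⟶ G.R) (hs : x ≫ G.s = y ≫ G.s) (ht : x' ≫ G.t = y ≫ G.t) :
    Z ⟶ G.R :=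
  pullback.lift (pullback.lift x (y ≫ G.i) (hs.trans (i_heap G y).symm) ≫ G.c) x'
    (heap_snd G x x' y (hs.trans (i_heap G y).symm) ht) ≫ G.c

theorem comp_heap {Z Z' : Sp S} (g : Z' ⟶ Z) (x x' y : Z ⟶ G.R) (hs : x ≫ G.s = y ≫ G.s)
    (ht : x' ≫ G.t = y ≫ G.t) (hs' : (g ≫ x) ≫ G.s = (g ≫ y) ≫ G.s) (ht' : (g ≫ x') ≫ G.t = (g ≫ y) ≫ G.t) :
    g ≫ heap G x x' y hs ht = heap G (g ≫ x) (g ≫ x') (g ≫ y) hs' ht' := by
  simp only [heap]
  rw [← Category.assoc]
  congr 1
  apply pullback.hom_ext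
  · rw [Category.assoc, pullback.lift_fst, pullback.lift_fst, ← Category.assoc]
    congr 1
    apply pullback.hom_ext <;> simp [Category.assoc]
  · simp

theorem heap_right {Z : Sp S} (x y : Z ⟶ G.R) (hs : x ≫ G.s = y ≫ G.s) : heap G x y y hs rfl = x := by
  have h₁ : x ≫ G.s = (y ≫ G.i) ≫ G.t := hs.trans (i_heap G y).symm
  have h₂ : (y ≫ G.i) ≫ G.s = y ≫ G.t := by rw [Category.assoc, G.i_s]
  unfold heap
  rw [G.assoc x (y ≫ G.i) y h₁ h₂]
  refine Eq.trans ?_ (G.comp_e x)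
  congr 1
  apply pullback.hom_ext
  · rw [pullback.lift_fst, pullback.lift_fst]
  · rw [pullback.lift_snd, pullback.lift_snd, G.i_comp y, ← Category.assoc, ← hs, Category.assoc]

theorem heap_left {Z : Sp S} (x' y : Z ⟶ G.R) (ht : x' ≫ G.t = y ≫ G.t) : heap G y x' y rfl ht = x' := by
  unfold heap
  refine Eq.trans ?_ (G.e_comp x')
  congr 1
  apply pullback.hom_ext
  · rw [pullback.lift_fst, pullback.lift_fst, G.comp_i y, ← Category.assoc, ← ht, Category.assoc]
  · rw [pullback.lift_snd, pullback.lift_snd]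

/-- A groupoid space over a field is geometrically unibranch. -/
theorem hasAt_groupoid (hR : IsAlgSpace G.R) (k : Type u) [Field k] (σ : Spec (CommRingCat.of k) ⟶ S)
    (eU : G.U ≅ (yon S).obj (Over.mk σ)) (r : Points G.R) :
    HasAt (fun V v => Brnch.numGeomBranchesAt V v = 1) G.R r := by
  refine hasAt_numGeomBranches (X := (⟨G.R, hR⟩ : Space S)) (fun {U p} hp u => ?_) r
  have hs : ∀ {Z : Sp S} (x y : Z ⟶ G.R), x ≫ G.s ≫ eU.hom = y ≫ G.s ≫ eU.hom → x ≫ G.s = y ≫ G.s :=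
    fun x y h => (cancel_mono eU.hom).1 (by rw [Category.assoc, Category.assoc, h])
  have ht : ∀ {Z : Sp S} (x y : Z ⟶ G.R), x ≫ G.t ≫ eU.hom = y ≫ G.t ≫ eU.hom → x ≫ G.t = y ≫ G.t :=
    fun x y h => (cancel_mono eU.hom).1 (by rw [Category.assoc, Category.assoc, h])
  exact dirGen_chart (X := G.R) σ (G.s ≫ eU.hom) (G.t ≫ eU.hom)
    (fun x x' y h h' => heap G x x' y (hs _ _ h) (ht _ _ h'))
    (fun g x x' y h h' h'' h''' => comp_heap G g x x' y _ _ _ _)
    (fun x y h => heap_right G x y _) (fun x' y h => heap_left G x' y _) hp u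

open MonoidalCategory MonObj CartesianMonoidalCategory in
/-- A group space over a field is geometrically unibranch. -/
theorem hasAt_group (k : Type u) [Field k]
    (G : Over ((yon (Spec (CommRingCat.of k))).obj (Over.mk (𝟙 _)))) [GrpObj G] (hG : IsAlgSpace G.left)
    (x : Points G.left) : HasAt (fun U u => Brnch.numGeomBranchesAt U u = 1) G.left x := by
  let T := (yon (Spec (CommRingCat.of k))).obj (Over.mk (𝟙 _))
  have hT : IsTerminal T := IsTerminal.isTerminalObj (yon _) _ Over.mkIdTerminal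
  let up : ∀ {Z : Sp (Spec (CommRingCat.of k))}, (Z ⟶ G.left) → (Over.mk (hT.from Z) ⟶ G) := fun {Z} a =>
    Over.homMk a (hT.hom_ext _ _)
  refine hasAt_numGeomBranches (X := (⟨G.left, hG⟩ : Space _)) (fun {U p} hp u => ?_) x
  refine dirGen_chart (X := G.left) (𝟙 _) G.hom G.hom
    (fun a a' b _ _ => ((up a * (up b)⁻¹) * up a').left) ?_ ?_ ?_ hp u
  · intro Z Z' g a a' b _ _ _ _
    let g' : Over.mk (hT.from Z') ⟶ Over.mk (hT.from Z) := Over.homMk g (hT.hom_ext _ _)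
    have e : ∀ c : Z ⟶ G.left, g' ≫ up c = up (g ≫ c) := fun c => Over.OverMorphism.ext rfl
    change (g' ≫ ((up a * (up b)⁻¹) * up a')).left = _
    rw [MonObj.comp_mul, MonObj.comp_mul, GrpObj.comp_inv, e, e, e]
  · intro Z a b _
    change ((up a * (up b)⁻¹) * up b).left = a
    rw [inv_mul_cancel_right]
    rfl
  · intro Z a' b _
    change ((up b * (up b)⁻¹) * up a').left = a'
    rw [mul_inv_cancel, _root_.one_mul]
    rfl

end Groth.Agent.H12AlgSp.Branch
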