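import Groth.Agent.H05EGA4.NormalTensorGeom
import Groth.Agent.S2070
import Groth.Agent.H06EGA17.SmoothRing
import Groth.Agent.H28Neron.EtaleNeron
import Groth.Agent.H18Et.EtaleNormalScheme
import Groth.Agent.H19Grp.Components
import Groth.Agent.H12AlgSp.EtBranches
import Groth.Agent.S10239

/-!
Spaces with a composition law over a field are geometrically unibranch.
-/

set_option autoImplicit false
set_option backward.isDefEq.respectTransparency false
set_option linter.style.haveILetI false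

universe u

open CategoryTheory CategoryTheory.Limits AlgebraicGeometry Opposite
open AlgSp Groth.Agent.H19Grp
open scoped TensorProduct

namespace Groth.Agent.H12AlgSp.Branch

/-- A prime below the kernel of a point lifts to a normal algebra over the value field of the point. -/
theorem exists_normal_algebra {k A K : Type u} [Field k] [CommRing A] [Field K] [IsAlgClosed K]
    (ψ : k →+* A) (κ : A →+* K) (p₀ : Ideal A) [p₀.IsPrime] (h : p₀ ≤ RingHom.ker κ) :
    ∃ (B : Type u) (_ : CommRing B) (_ : IsDomain B) (_ : Algebra K B) (b : B →ₐ[K] K) (α : A →+* B),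
      EGA4.IsNormalRing B ∧ RingHom.ker α = p₀ ∧ b.toRingHom.comp α = κ ∧
        α.comp ψ = (algebraMap K B).comp (κ.comp ψ) := by
  letI : Algebra k A := ψ.toAlgebra
  letI : Algebra k K := (κ.comp ψ).toAlgebra
  let κa : A →ₐ[k] K := { κ with commutes' := fun _ => rfl }
  let π : K ⊗[k] A →ₐ[K] K := Algebra.TensorProduct.lift (AlgHom.id K K) κa (fun _ _ => Commute.all _ _)
  let m : Ideal (K ⊗[k] A) := RingHom.ker π
  haveI : m.IsPrime := RingHom.ker_isPrime _
  letI : Algebra A (K ⊗[k] A) := Algebra.TensorProduct.rightAlgebra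
  haveI : Module.Flat A (K ⊗[k] A) := Module.Flat.of_linearEquiv (M := A ⊗[k] K)
    (AlgEquiv.ofRingEquiv (f := (Algebra.TensorProduct.comm k A K).toRingEquiv) (fun a => rfl) :
      (A ⊗[k] K) ≃ₐ[A] K ⊗[k] A).toLinearEquiv.symm
  let mP : Ideal A := RingHom.ker κ
  haveI : mP.IsPrime := RingHom.ker_isPrime _
  haveI : m.LiesOver mP := ⟨by
    ext x
    change κ x = 0 ↔ π ((1 : K) ⊗ₜ[k] x) = 0
    rw [Algebra.TensorProduct.lift_tmul]
    simp [κa]⟩
  obtain ⟨P, hPm, hP, hPo⟩ := Ideal.exists_ideal_le_liesOver_of_le (S := K ⊗[k] A) (p := p₀) (q := mP) m h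
  let D := (K ⊗[k] A) ⧸ P
  haveI : IsDomain D := Ideal.Quotient.isDomain P
  let F := FractionRing D
  let B := integralClosure D F
  haveI : IsIntegrallyClosed B := integralClosure.isIntegrallyClosedOfFiniteExtension F
  let π' : D →ₐ[K] K := Ideal.Quotient.liftₐ P π fun x hx => hPm hx
  let q : Ideal D := RingHom.ker π'
  haveI : q.IsPrime := RingHom.ker_isPrime _
  have hker : RingHom.ker (algebraMap D B) ≤ q := fun x hx => by
    have : algebraMap D F x = 0 := by
      rw [IsScalarTower.algebraMap_apply D B F, RingHom.mem_ker.1 hx, map_zero]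
    rw [(IsFractionRing.injective D F) (this.trans (map_zero _).symm)]
    exact zero_mem _
  obtain ⟨Q, -, hQ, hQc⟩ := Ideal.exists_ideal_over_prime_of_isIntegral q (⊥ : Ideal B) hker
  haveI := hQ
  haveI : IsDomain (B ⧸ Q) := Ideal.Quotient.isDomain Q
  haveI : IsScalarTower K D B := IsScalarTower.of_algebraMap_eq fun x => rfl
  haveI : Algebra.IsIntegral K (B ⧸ Q) := ⟨fun y => by
    obtain ⟨y, rfl⟩ := Ideal.Quotient.mk_surjective y
    obtain ⟨f, hf, hfy⟩ := Algebra.IsIntegral.isIntegral (R := D) y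
    refine ⟨f.map π'.toRingHom, hf.map _, ?_⟩
    have hc : (algebraMap K (B ⧸ Q)).comp π'.toRingHom = (Ideal.Quotient.mk Q).comp (algebraMap D B) := by
      refine RingHom.ext fun d => ?_
      have hd : d - algebraMap K D (π' d) ∈ q := by
        rw [RingHom.mem_ker, map_sub, AlgHom.commutes]
        exact sub_self _
      have := (hQc.ge hd : algebraMap D B (d - algebraMap K D (π' d)) ∈ Q)
      rw [Ideal.mem_comap, map_sub] at this
      exact ((IsScalarTower.algebraMap_apply K B (B ⧸ Q) (π' d)).trans ((congrArg (Ideal.Quotient.mk Q)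
        (IsScalarTower.algebraMap_apply K D B (π' d))).trans ((Ideal.Quotient.eq).2 this).symm))
    rw [Polynomial.eval₂_map, hc, ← Polynomial.hom_eval₂, hfy, map_zero]⟩
  let e : K ≃ₐ[K] B ⧸ Q := AlgEquiv.ofBijective (Algebra.ofId K _) IsAlgClosed.algebraMap_bijective_of_isIntegral
  let b : B →ₐ[K] K := e.symm.toAlgHom.comp (Ideal.Quotient.mkₐ K Q)
  have hb : ∀ d : D, b (algebraMap D B d) = π' d := fun d => by
    apply e.injective
    change e (e.symm (Ideal.Quotient.mk Q (algebraMap D B d))) = e (π' d)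
    rw [AlgEquiv.apply_symm_apply]
    have hd : d - algebraMap K D (π' d) ∈ q := by
      rw [RingHom.mem_ker, map_sub, AlgHom.commutes]
      exact sub_self _
    have := (hQc.ge hd : algebraMap D B (d - algebraMap K D (π' d)) ∈ Q)
    rw [Ideal.mem_comap, map_sub] at this
    exact ((Ideal.Quotient.eq).2 this).trans ((congrArg (Ideal.Quotient.mk Q)
      (IsScalarTower.algebraMap_apply K D B (π' d))).symm.trans (IsScalarTower.algebraMap_apply K B (B ⧸ Q) (π' d)).symm)
  let α : A →+* B :=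
    ((algebraMap D B).comp (Ideal.Quotient.mk P)).comp (Algebra.TensorProduct.includeRight (R := k) (A := K)).toRingHom
  refine ⟨B, inferInstance, inferInstance, inferInstance, b, α,
    H06EGA17.isNormalRing_of_isIntegrallyClosed B, ?_, RingHom.ext fun x => ?_, RingHom.ext fun x => ?_⟩
  · ext x
    rw [RingHom.mem_ker]
    change algebraMap D B (Ideal.Quotient.mk P ((1 : K) ⊗ₜ[k] x)) = 0 ↔ _
    rw [(injective_iff_map_eq_zero' _).1 fun a a' e' => IsFractionRing.injective D F (by
      rw [IsScalarTower.algebraMap_apply D B F, e', ← IsScalarTower.algebraMap_apply D B F]),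
      Ideal.Quotient.eq_zero_iff_mem, hPo.over]
    rfl
  · change b (algebraMap D B (Ideal.Quotient.mk P ((1 : K) ⊗ₜ[k] x))) = κ x
    rw [hb]
    change π ((1 : K) ⊗ₜ[k] x) = κ x
    rw [Algebra.TensorProduct.lift_tmul]
    simp [κa]
  · change algebraMap D B (Ideal.Quotient.mk P ((1 : K) ⊗ₜ[k] ψ x)) = algebraMap K B (κ (ψ x))
    rw [IsScalarTower.algebraMap_apply K D B]
    congr 1
    change Ideal.Quotient.mk P ((1 : K) ⊗ₜ[k] (algebraMap k A x)) =
      Ideal.Quotient.mk P ((algebraMap k K x) ⊗ₜ[k] (1 : A))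
    rw [← Algebra.TensorProduct.algebraMap_apply, ← Algebra.TensorProduct.algebraMap_apply']

variable {S : Scheme.{u}}

/-- Spectra of homomorphisms of algebras respect structure maps. -/
theorem specMap_algHom {K B C : Type u} [CommRing K] [CommRing B] [CommRing C] [Algebra K B] [Algebra K C]
    (φ : B →ₐ[K] C) :
    Spec.map (CommRingCat.ofHom φ.toRingHom) ≫ Spec.map (CommRingCat.ofHom (algebraMap K B)) =
      Spec.map (CommRingCat.ofHom (algebraMap K C)) := by
  rw [← Spec.map_comp, ← CommRingCat.ofHom_comp]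
  congr 2
  exact φ.comp_algebraMap

/-- A rational point is a section of the structure map. -/
theorem specMap_point {K B : Type u} [CommRing K] [CommRing B] [Algebra K B] (b : B →ₐ[K] K) :
    Spec.map (CommRingCat.ofHom b.toRingHom) ≫ Spec.map (CommRingCat.ofHom (algebraMap K B)) = 𝟙 _ :=
  (specMap_algHom b).trans (Spec.map_id _)

/-- Two slices through a point of a normal scheme over a chart have a common generization. -/
theorem exists_common_generization {X : Sp S} {U W oB oC oK : Over S} {p : (yon S).obj U ⟶ X}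
    (hp : RepWith @Etale p) (hW : Pi1.IsNormalScheme W.left) (f : (yon S).obj W ⟶ X)
    (a : oB ⟶ U) (a' : oC ⟶ U) (iB : oB ⟶ W) (jC : oC ⟶ W) (bK : oK ⟶ oB) (cK : oK ⟶ oC)
    (hf : (yon S).map iB ≫ f = (yon S).map a ≫ p) (hf' : (yon S).map jC ≫ f = (yon S).map a' ≫ p)
    (hw : bK ≫ iB = cK ≫ jC) (hu : bK ≫ a = cK ≫ a') (k₀ : oK.left) (η : oB.left) (η' : oC.left)
    (hη : η ⤳ bK.left k₀) (hη' : η' ⤳ cK.left k₀) :
    ∃ ξ : U.left, ξ ⤳ a.left η ∧ ξ ⤳ a'.left η' := by
  obtain ⟨V, r, h', sq⟩ := hp.1 f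
  obtain ⟨h, hh⟩ := (yon S).map_surjective h'
  have sq' : IsPullback ((yon S).map h) ((yon S).map r) p f := hh.symm ▸ sq
  haveI : Etale r.left := hp.2 _ _ _ sq
  obtain ⟨lB', hlB₁, hlB₂⟩ := sq'.exists_lift ((yon S).map a) ((yon S).map iB) hf.symm
  obtain ⟨lC', hlC₁, hlC₂⟩ := sq'.exists_lift ((yon S).map a') ((yon S).map jC) hf'.symm
  obtain ⟨lB, hlB⟩ := (yon S).map_surjective lB'
  obtain ⟨lC, hlC⟩ := (yon S).map_surjective lC'
  rw [← hlB, ← Functor.map_comp] at hlB₁ hlB₂
  rw [← hlC, ← Functor.map_comp] at hlC₁ hlC₂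
  have eB₁ := (yon S).map_injective hlB₁
  have eB₂ := (yon S).map_injective hlB₂
  have eC₁ := (yon S).map_injective hlC₁
  have eC₂ := (yon S).map_injective hlC₂
  have hv : bK ≫ lB = cK ≫ lC := by
    apply (yon S).map_injective
    apply sq'.hom_ext
    · rw [← Functor.map_comp, ← Functor.map_comp, Category.assoc, Category.assoc, eB₁, eC₁, hu]
    · rw [← Functor.map_comp, ← Functor.map_comp, Category.assoc, Category.assoc, eB₂, eC₂, hw]
  let v : V.left := lB.left (bK.left k₀)
  have hv' : lC.left (cK.left k₀) = v := (congrArg (fun g => g.left k₀) hv).symm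
  have hηB : lB.left η ⤳ v := hη.map lB.left.continuous
  have hηC : lC.left η' ⤳ v := hv' ▸ hη'.map lC.left.continuous
  haveI : IsDomain (V.left.presheaf.stalk v) :=
    (H18Et.EtaleNormalScheme.normal_stalk_of_etale r.left v (hW _)).1
  let ξ₀ : ↥(Spec (V.left.presheaf.stalk v)) := (⟨⊥, Ideal.isPrime_bot⟩ : PrimeSpectrum _)
  have hgen : ∀ z, z ⤳ v → V.left.fromSpecStalk v ξ₀ ⤳ z := fun z hz => by
    obtain ⟨y, rfl⟩ : z ∈ Set.range (V.left.fromSpecStalk v) := by
      rw [Scheme.range_fromSpecStalk]; exact hz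
    exact ((PrimeSpectrum.le_iff_specializes ξ₀ y).1 bot_le).map (V.left.fromSpecStalk v).continuous
  refine ⟨h.left (V.left.fromSpecStalk v ξ₀), ?_, ?_⟩
  · rw [← eB₁, Over.comp_left, Scheme.Hom.comp_apply]; exact (hgen _ hηB).map h.left.continuous
  · rw [← eC₁, Over.comp_left, Scheme.Hom.comp_apply]; exact (hgen _ hηC).map h.left.continuous

/-- A heap law for two maps to the spectrum of a field makes local rings of charts directed. -/
theorem dirGen_chart {X : Sp S} {k : Type u} [Field k] (σ : Spec (CommRingCat.of k) ⟶ S)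
    (s t : X ⟶ (yon S).obj (Over.mk σ))
    (m : ∀ {Z : Sp S} (x x' y : Z ⟶ X), x ≫ s = y ≫ s → x' ≫ t = y ≫ t → (Z ⟶ X))
    (hm : ∀ {Z Z' : Sp S} (g : Z' ⟶ Z) (x x' y : Z ⟶ X) (hs : x ≫ s = y ≫ s) (ht : x' ≫ t = y ≫ t)
      (hs' : (g ≫ x) ≫ s = (g ≫ y) ≫ s) (ht' : (g ≫ x') ≫ t = (g ≫ y) ≫ t),
      g ≫ m x x' y hs ht = m (g ≫ x) (g ≫ x') (g ≫ y) hs' ht')
    (hm₁ : ∀ {Z : Sp S} (x y : Z ⟶ X) (hs : x ≫ s = y ≫ s), m x y y hs rfl = x)
    (hm₂ : ∀ {Z : Sp S} (x' y : Z ⟶ X) (ht : x' ≫ t = y ≫ t), m y x' y rfl ht = x')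
    {U : Over S} {p : (yon S).obj U ⟶ X} (hp : RepWith @Etale p) (u : U.left) : DirGen u := by
  obtain ⟨W, hW, huW, -⟩ := exists_isAffineOpen_mem_and_subset (TopologicalSpace.Opens.mem_top u)
  let A := Γ(U.left, W)
  let U' : Over S := Over.mk (hW.fromSpec ≫ U.hom)
  let incl : U' ⟶ U := Over.homMk hW.fromSpec rfl
  have hp' : RepWith @Etale ((yon S).map incl ≫ p) :=
    repWith_comp ((repWith_yon_map_iff _ _).2 (show Etale hW.fromSpec from inferInstance)) hp
  obtain ⟨u', rfl⟩ : u ∈ Set.range hW.fromSpec := by rw [hW.range_fromSpec]; exact huW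
  refine DirGen.image_flat hW.fromSpec ?_
  obtain ⟨ms, hms⟩ := (yon S).map_surjective ((yon S).map incl ≫ p ≫ s)
  obtain ⟨mt, hmt⟩ := (yon S).map_surjective ((yon S).map incl ≫ p ≫ t)
  obtain ⟨ψs, hψs⟩ := Spec.map_surjective ms.left
  obtain ⟨ψt, hψt⟩ := Spec.map_surjective mt.left
  intro p₀ q₀ hp₀ hq₀
  let P : PrimeSpectrum A := u'
  let p₁ : PrimeSpectrum A := p₀
  let q₁ : PrimeSpectrum A := q₀
  let K := AlgebraicClosure P.asIdeal.ResidueField
  let κ : A →+* K := (algebraMap P.asIdeal.ResidueField K).comp (algebraMap A P.asIdeal.ResidueField)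
  have hκ : RingHom.ker κ = P.asIdeal := by
    change RingHom.ker ((algebraMap P.asIdeal.ResidueField K).comp (algebraMap A P.asIdeal.ResidueField)) = _
    rw [RingHom.ker_comp_of_injective (algebraMap A P.asIdeal.ResidueField)
      (algebraMap P.asIdeal.ResidueField K).injective]
    exact Ideal.ker_algebraMap_residueField _
  obtain ⟨B, _, _, _, b, α, hB, hα, hbα, hαψ⟩ := exists_normal_algebra (k := k) ψs.hom κ p₁.asIdeal
    (le_of_le_of_eq (show p₁.asIdeal ≤ P.asIdeal from (PrimeSpectrum.le_iff_specializes p₁ P).2 hp₀) hκ.symm)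
  obtain ⟨C, _, _, _, c, β, hC, hβ, hcβ, hβψ⟩ := exists_normal_algebra (k := k) ψt.hom κ q₁.asIdeal
    (le_of_le_of_eq (show q₁.asIdeal ≤ P.asIdeal from (PrimeSpectrum.le_iff_specializes q₁ P).2 hq₀) hκ.symm)
  let τ : Spec (CommRingCat.of K) ⟶ S := Spec.map (CommRingCat.ofHom κ) ≫ U'.hom
  let y₀ : Over.mk τ ⟶ U' := Over.homMk (Spec.map (CommRingCat.ofHom κ)) rfl
  have hτs : τ = Spec.map (CommRingCat.ofHom (κ.comp ψs.hom)) ≫ σ := by
    change _ ≫ _ = _
    rw [← Over.w ms, ← hψs, ← Category.assoc, ← Spec.map_comp]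
    rfl
  have hτt : τ = Spec.map (CommRingCat.ofHom (κ.comp ψt.hom)) ≫ σ := by
    change _ ≫ _ = _
    rw [← Over.w mt, ← hψt, ← Category.assoc, ← Spec.map_comp]
    rfl
  have ha : Spec.map (CommRingCat.ofHom α) ≫ U'.hom = Spec.map (CommRingCat.ofHom (algebraMap K B)) ≫ τ := by
    rw [hτs, ← Over.w ms, ← hψs, ← Category.assoc, ← Category.assoc, ← Spec.map_comp, ← Spec.map_comp]
    change Spec.map (CommRingCat.ofHom (α.comp ψs.hom)) ≫ σ = _
    rw [hαψ]
    rfl
  have ha' : Spec.map (CommRingCat.ofHom β) ≫ U'.hom = Spec.map (CommRingCat.ofHom (algebraMap K C)) ≫ τ := by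
    rw [hτt, ← Over.w mt, ← hψt, ← Category.assoc, ← Category.assoc, ← Spec.map_comp, ← Spec.map_comp]
    change Spec.map (CommRingCat.ofHom (β.comp ψt.hom)) ≫ σ = _
    rw [hβψ]
    rfl
  let oB : Over S := Over.mk (Spec.map (CommRingCat.ofHom (algebraMap K B)) ≫ τ)
  let oC : Over S := Over.mk (Spec.map (CommRingCat.ofHom (algebraMap K C)) ≫ τ)
  let oW : Over S := Over.mk (Spec.map (CommRingCat.ofHom (algebraMap K (B ⊗[K] C))) ≫ τ)
  let str : oW ⟶ Over.mk τ := Over.homMk (Spec.map (CommRingCat.ofHom (algebraMap K (B ⊗[K] C)))) rfl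
  let strB : oB ⟶ Over.mk τ := Over.homMk (Spec.map (CommRingCat.ofHom (algebraMap K B))) rfl
  let strC : oC ⟶ Over.mk τ := Over.homMk (Spec.map (CommRingCat.ofHom (algebraMap K C))) rfl
  let prB : oW ⟶ oB := Over.homMk
    (Spec.map (CommRingCat.ofHom (Algebra.TensorProduct.includeLeft (S := K) : B →ₐ[K] B ⊗[K] C).toRingHom)) (by
      change _ ≫ _ ≫ τ = _ ≫ τ
      rw [← Category.assoc]
      exact congrArg (· ≫ τ) (specMap_algHom _))
  let prC : oW ⟶ oC := Over.homMk
    (Spec.map (CommRingCat.ofHom (Algebra.TensorProduct.includeRight : C →ₐ[K] B ⊗[K] C).toRingHom)) (by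
      change _ ≫ _ ≫ τ = _ ≫ τ
      rw [← Category.assoc]
      exact congrArg (· ≫ τ) (specMap_algHom _))
  let iB : oB ⟶ oW := Over.homMk (Spec.map (CommRingCat.ofHom (Algebra.TensorProduct.lift (AlgHom.id K B)
      ((Algebra.ofId K B).comp c) fun _ _ => Commute.all _ _).toRingHom)) (by
      change _ ≫ _ ≫ τ = _ ≫ τ
      rw [← Category.assoc]
      exact congrArg (· ≫ τ) (specMap_algHom _))
  let jC : oC ⟶ oW := Over.homMk (Spec.map (CommRingCat.ofHom (Algebra.TensorProduct.lift ((Algebra.ofId K C).comp b)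
      (AlgHom.id K C) fun _ _ => Commute.all _ _).toRingHom)) (by
      change _ ≫ _ ≫ τ = _ ≫ τ
      rw [← Category.assoc]
      exact congrArg (· ≫ τ) (specMap_algHom _))
  let aB : oB ⟶ U' := Over.homMk (Spec.map (CommRingCat.ofHom α)) ha
  let aC : oC ⟶ U' := Over.homMk (Spec.map (CommRingCat.ofHom β)) ha'
  let cK : oB ⟶ oC := strB ≫ Over.homMk (Spec.map (CommRingCat.ofHom c.toRingHom)) (by
    change _ ≫ _ ≫ τ = τ
    rw [← Category.assoc, specMap_point, Category.id_comp])
  let bK : oC ⟶ oB := strC ≫ Over.homMk (Spec.map (CommRingCat.ofHom b.toRingHom)) (by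
    change _ ≫ _ ≫ τ = τ
    rw [← Category.assoc, specMap_point, Category.id_comp])
  let q := (yon S).map incl ≫ p
  have h1 : aB ≫ ms = strB ≫ y₀ ≫ ms := by
    refine Over.OverMorphism.ext ?_
    simp only [Over.comp_left, Over.homMk_left, aB, strB, y₀, ← hψs, ← Spec.map_comp]
    congr 1
    exact CommRingCat.hom_ext hαψ
  have h2 : aC ≫ mt = strC ≫ y₀ ≫ mt := by
    refine Over.OverMorphism.ext ?_
    simp only [Over.comp_left, Over.homMk_left, aC, strC, y₀, ← hψt, ← Spec.map_comp]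
    congr 1
    exact CommRingCat.hom_ext hβψ
  have eB : prB ≫ strB = str := Over.OverMorphism.ext (by
    simp only [Over.comp_left, Over.homMk_left, prB, strB, str]
    exact specMap_algHom _)
  have eC : prC ≫ strC = str := Over.OverMorphism.ext (by
    simp only [Over.comp_left, Over.homMk_left, prC, strC, str]
    exact specMap_algHom _)
  have hs : ((yon S).map (prB ≫ aB) ≫ q) ≫ s = ((yon S).map (str ≫ y₀) ≫ q) ≫ s := by
    simp only [q, Category.assoc, ← hms, ← Functor.map_comp]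
    congr 1
    rw [h1, ← Category.assoc prB strB, eB]
  have ht : ((yon S).map (prC ≫ aC) ≫ q) ≫ t = ((yon S).map (str ≫ y₀) ≫ q) ≫ t := by
    simp only [q, Category.assoc, ← hmt, ← Functor.map_comp]
    congr 1
    rw [h2, ← Category.assoc prC strC, eC]
  let f := m _ _ _ hs ht
  have k1 : iB ≫ prB = 𝟙 oB := Over.OverMorphism.ext (by
    simp only [Over.comp_left, Over.homMk_left, iB, prB, ← Spec.map_comp]
    refine Eq.trans ?_ (Spec.map_id _)
    congr 1
    exact CommRingCat.hom_ext (RingHom.ext fun z => by simp))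
  have k2 : iB ≫ prC = cK := Over.OverMorphism.ext (by
    simp only [Over.comp_left, Over.homMk_left, iB, prC, cK, strB, ← Spec.map_comp]
    congr 1
    exact CommRingCat.hom_ext (RingHom.ext fun z => by simp))
  have k3 : iB ≫ str = strB := Over.OverMorphism.ext (by
    simp only [Over.comp_left, Over.homMk_left, iB, str, strB]
    exact specMap_algHom _)
  have l1 : jC ≫ prC = 𝟙 oC := Over.OverMorphism.ext (by
    simp only [Over.comp_left, Over.homMk_left, jC, prC, ← Spec.map_comp]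
    refine Eq.trans ?_ (Spec.map_id _)
    congr 1
    exact CommRingCat.hom_ext (RingHom.ext fun z => by simp))
  have l2 : jC ≫ prB = bK := Over.OverMorphism.ext (by
    simp only [Over.comp_left, Over.homMk_left, jC, prB, bK, strC, ← Spec.map_comp]
    congr 1
    exact CommRingCat.hom_ext (RingHom.ext fun z => by simp))
  have l3 : jC ≫ str = strC := Over.OverMorphism.ext (by
    simp only [Over.comp_left, Over.homMk_left, jC, str, strC]
    exact specMap_algHom _)
  have hcy : cK ≫ aC = strB ≫ y₀ := Over.OverMorphism.ext (by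
    simp only [Over.comp_left, Over.homMk_left, cK, aC, strB, y₀, Category.assoc, ← Spec.map_comp]
    rw [← hcβ]
    rfl)
  have hby : bK ≫ aB = strC ≫ y₀ := Over.OverMorphism.ext (by
    simp only [Over.comp_left, Over.homMk_left, bK, aB, strC, y₀, Category.assoc, ← Spec.map_comp]
    rw [← hbα]
    rfl)
  have hf : (yon S).map iB ≫ f = (yon S).map aB ≫ q := by
    rw [hm _ _ _ _ hs ht (by simp only [Category.assoc] at hs ⊢; rw [hs])
      (by simp only [Category.assoc] at ht ⊢; rw [ht])]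
    simp only [← Category.assoc, ← Functor.map_comp, k1, k2, k3, hcy, Category.id_comp]
    exact hm₁ _ _ _
  have hf' : (yon S).map jC ≫ f = (yon S).map aC ≫ q := by
    rw [hm _ _ _ _ hs ht (by simp only [Category.assoc] at hs ⊢; rw [hs])
      (by simp only [Category.assoc] at ht ⊢; rw [ht])]
    simp only [← Category.assoc, ← Functor.map_comp, l1, l2, l3, hby, Category.id_comp]
    exact hm₂ _ _ _
  let b₀ : Over.mk τ ⟶ oB := Over.homMk (Spec.map (CommRingCat.ofHom b.toRingHom))
    (by change _ ≫ _ ≫ τ = τ; rw [← Category.assoc, specMap_point, Category.id_comp])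
  let c₀ : Over.mk τ ⟶ oC := Over.homMk (Spec.map (CommRingCat.ofHom c.toRingHom))
    (by change _ ≫ _ ≫ τ = τ; rw [← Category.assoc, specMap_point, Category.id_comp])
  have hu : b₀ ≫ aB = c₀ ≫ aC := Over.OverMorphism.ext (by
    simp only [Over.comp_left, Over.homMk_left, b₀, c₀, aB, aC, ← Spec.map_comp]
    congr 1
    exact CommRingCat.hom_ext (hbα.trans hcβ.symm))
  have hw : b₀ ≫ iB = c₀ ≫ jC := Over.OverMorphism.ext (by
    simp only [Over.comp_left, Over.homMk_left, b₀, c₀, iB, jC, ← Spec.map_comp]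
    congr 1
    refine CommRingCat.hom_ext (RingHom.ext fun z => ?_)
    change b ((Algebra.TensorProduct.lift (AlgHom.id K B) ((Algebra.ofId K B).comp c) fun _ _ => Commute.all _ _) z) =
      c ((Algebra.TensorProduct.lift ((Algebra.ofId K C).comp b) (AlgHom.id K C) fun _ _ => Commute.all _ _) z)
    induction z using TensorProduct.induction_on with
    | zero => simp only [map_zero]
    | add x y hx hy => simp only [map_add, hx, hy]
    | tmul x y => simp [mul_comm])
  have hWn : Pi1.IsNormalScheme oW.left := H28Neron.EtaleNeron.isNormalScheme_Spec (B ⊗[K] C)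
    (H05EGA4.isNormalRing_tensor_of_isGeomNormal_general (S2070.isGeomNormal_of_perfect hB) C hC)
  obtain ⟨ξ, hξ, hξ'⟩ := exists_common_generization hp' hWn f aB aC iB jC b₀ c₀ hf hf' hw hu
    (IsLocalRing.closedPoint K) (⟨⊥, Ideal.isPrime_bot⟩ : PrimeSpectrum B) (⟨⊥, Ideal.isPrime_bot⟩ : PrimeSpectrum C)
    ((PrimeSpectrum.le_iff_specializes (⟨⊥, Ideal.isPrime_bot⟩ : PrimeSpectrum B) _).1 bot_le)
    ((PrimeSpectrum.le_iff_specializes (⟨⊥, Ideal.isPrime_bot⟩ : PrimeSpectrum C) _).1 bot_le)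
  refine ⟨ξ, ?_, ?_⟩
  · have e : Spec.map (CommRingCat.ofHom α) (⟨⊥, Ideal.isPrime_bot⟩ : PrimeSpectrum B) = p₀ :=
      PrimeSpectrum.ext ((RingHom.ker_eq_comap_bot α).symm.trans hα)
    exact e ▸ hξ
  · have e : Spec.map (CommRingCat.ofHom β) (⟨⊥, Ideal.isPrime_bot⟩ : PrimeSpectrum C) = q₀ :=
      PrimeSpectrum.ext ((RingHom.ker_eq_comap_bot β).symm.trans hβ)
    exact e ▸ hξ'

/-- One geometric branch everywhere, for spaces with a heap law over a field. -/
theorem hasAt_numGeomBranches {X : Space S}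
    (h : ∀ {U : Over S} {p : (yon S).obj U ⟶ X.obj}, RepWith @Etale p → ∀ u : U.left, DirGen u)
    (x : Points X.obj) : HasAt (fun U u => Brnch.numGeomBranchesAt U u = 1) X.obj x := by
  obtain ⟨U, a, ha, has⟩ := X.property.atlas
  obtain ⟨u, hu⟩ := surjective_ofPt_of_repWith le_rfl has x
  have hle : ∀ (V : Over S) (b : (yon S).obj V ⟶ X.obj) (v : ↥V.left), RepWith @Etale b → Points.ofPt b v = x →
      (minimalPrimes ↥(V.left.presheaf.stalk v)).encard ≤ ((1 : ℕ) : ℕ∞) := fun V b v hb _ => by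
    rw [Nat.cast_one, Set.encard_le_one_iff]
    exact fun p q hp hq => minimalPrimes_stalk_subsingleton (h hb v) hp hq
  have hex : HasAt (fun V v => (minimalPrimes ↥(V.presheaf.stalk v)).encard = ((1 : ℕ) : ℕ∞)) X.obj x :=
    ⟨U, a, u, ha, hu, le_antisymm (hle U a u ha hu) (by
      rw [Nat.cast_one, Set.one_le_encard_iff_nonempty]
      exact Set.nonempty_coe_sort.1 (Ideal.nonempty_minimalPrimes (I := (⊥ : Ideal _)) bot_ne_top))⟩
  exact ⟨U, a, u, ha, hu, by
    rw [← Nat.cast_one]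
    exact ((S10239.result X x 1 le_rfl).1.1 ⟨hle, hex⟩) U a u ha hu⟩

end Groth.Agent.H12AlgSp.Branch
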